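import Mathlib

/-!
# Average fixed-space deficiency on abelian normal sections

For a subgroup `W` the deficiency of `g` is the exponent of `p` in `|W| / |C_W(g)|`.
-/

set_option autoImplicit false

namespace Cfsg.Agent.Lib.PrimitiveDegree

open Subgroup

variable {H : Type*} [Group H]

/-- The exponent of `p` in `|W| / |C_W(g)|`. -/
noncomputable def fixDef (p : ℕ) (W : Subgroup H) (g : H) : ℕ :=
  (Nat.card W).factorization p -
    (Nat.card ↥(W ⊓ centralizer ({g} : Set H))).factorization p

theorem card_eq_ker_mul_range {X Y : Type*} [Group X] [Group Y] (f : X →* Y) :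
    Nat.card X = Nat.card f.ker * Nat.card f.range := by
  rw [← f.ker.card_mul_index, index_ker]

theorem factorization_le_add {p a b c : ℕ} (hb : b ≠ 0) (hc : c ≠ 0) (h : a ∣ b * c) :
    a.factorization p ≤ b.factorization p + c.factorization p := by
  rcases eq_or_ne a 0 with rfl | ha
  · simp
  have h' := (Nat.factorization_le_iff_dvd ha (mul_ne_zero hb hc)).2 h p
  rwa [Nat.factorization_mul hb hc, Finsupp.add_apply] at h'

variable [Finite H]

theorem factorization_inf_le (p : ℕ) (W : Subgroup H) (g : H) :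
    (Nat.card ↥(W ⊓ centralizer ({g} : Set H))).factorization p ≤
      (Nat.card W).factorization p :=
  (Nat.factorization_le_iff_dvd Nat.card_pos.ne' Nat.card_pos.ne').2
    (card_dvd_of_le inf_le_left) p

theorem fixDef_add (p : ℕ) (W : Subgroup H) (g : H) :
    fixDef p W g + (Nat.card ↥(W ⊓ centralizer ({g} : Set H))).factorization p =
      (Nat.card W).factorization p :=
  Nat.sub_add_cancel (factorization_inf_le p W g)

omit [Finite H] in
theorem mem_inf_centralizer_singleton {W : Subgroup H} {g x : H} :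
    x ∈ W ⊓ centralizer ({g} : Set H) ↔ x ∈ W ∧ g * x = x * g := by
  rw [mem_inf, mem_centralizer_singleton_iff]; tauto

theorem fixDef_triangle {p : ℕ} [hp : Fact p.Prime] {W : Subgroup H} (hW : IsPGroup p W)
    (g m : H) : fixDef p W m ≤ fixDef p W g + fixDef p W (g * m) := by
  set A := W ⊓ centralizer ({g} : Set H) with hA
  set B := W ⊓ centralizer ({g * m} : Set H) with hB
  set C := W ⊓ centralizer ({m} : Set H) with hC
  have hAB : A ⊓ B ≤ C := by
    intro x hx
    obtain ⟨hx1, hx2⟩ := mem_inf.1 hx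
    rw [hA, mem_inf_centralizer_singleton] at hx1
    rw [hB, mem_inf_centralizer_singleton] at hx2
    rw [hC, mem_inf_centralizer_singleton]
    refine ⟨hx1.1, mul_left_cancel (a := g) ?_⟩
    rw [← mul_assoc, hx2.2, ← mul_assoc, ← hx1.2, mul_assoc]
  have hrel : (A ⊓ B).relIndex A ≤ B.relIndex W := by
    rw [inf_relIndex_left]
    exact relIndex_le_of_le_right (inf_le_left : A ≤ W)
      (FiniteIndex.index_ne_zero (H := B.subgroupOf W))
  have h1 : (A ⊓ B).relIndex A * Nat.card ↥(A ⊓ B) = Nat.card A := by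
    rw [← relIndex_bot_left, ← relIndex_bot_left, mul_comm]
    exact relIndex_mul_relIndex ⊥ (A ⊓ B) A bot_le inf_le_left
  have h2 : B.relIndex W * Nat.card B = Nat.card W := by
    rw [← relIndex_bot_left, ← relIndex_bot_left, mul_comm]
    exact relIndex_mul_relIndex ⊥ B W bot_le inf_le_left
  have key : Nat.card A * Nat.card B ≤ Nat.card W * Nat.card C := by
    rw [← h1, ← h2]
    calc (A ⊓ B).relIndex A * Nat.card ↥(A ⊓ B) * Nat.card B
        = (A ⊓ B).relIndex A * (Nat.card B * Nat.card ↥(A ⊓ B)) := by ring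
      _ ≤ B.relIndex W * (Nat.card B * Nat.card C) :=
          Nat.mul_le_mul hrel (Nat.mul_le_mul le_rfl (card_le_of_le hAB))
      _ = B.relIndex W * Nat.card B * Nat.card C := by ring
  obtain ⟨w, hw⟩ := IsPGroup.iff_card.1 hW
  obtain ⟨a, ha⟩ := IsPGroup.iff_card.1 (hW.to_le (inf_le_left : A ≤ W))
  obtain ⟨b, hb⟩ := IsPGroup.iff_card.1 (hW.to_le (inf_le_left : B ≤ W))
  obtain ⟨c, hc⟩ := IsPGroup.iff_card.1 (hW.to_le (inf_le_left : C ≤ W))
  rw [ha, hb, hw, hc, ← pow_add, ← pow_add,
    Nat.pow_le_pow_iff_right hp.out.one_lt] at key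
  have e1 : fixDef p W g + (Nat.card A).factorization p = (Nat.card W).factorization p :=
    fixDef_add p W g
  have e2 : fixDef p W (g * m) + (Nat.card B).factorization p = (Nat.card W).factorization p :=
    fixDef_add p W (g * m)
  have e3 : fixDef p W m + (Nat.card C).factorization p = (Nat.card W).factorization p :=
    fixDef_add p W m
  rw [ha, hw, hp.out.factorization_pow, Finsupp.single_eq_same, hp.out.factorization_pow,
    Finsupp.single_eq_same] at e1
  rw [hb, hw, hp.out.factorization_pow, Finsupp.single_eq_same, hp.out.factorization_pow,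
    Finsupp.single_eq_same] at e2
  rw [hc, hw, hp.out.factorization_pow, Finsupp.single_eq_same, hp.out.factorization_pow,
    Finsupp.single_eq_same] at e3
  omega

theorem card_mul_le_two_sum {p : ℕ} [Fact p.Prime] {W : Subgroup H} (hW : IsPGroup p W)
    (Q : Subgroup H) [Fintype Q] {z : H} (hz : z ∈ Q) :
    Nat.card Q * fixDef p W z ≤ 2 * ∑ q : Q, fixDef p W (q : H) := by
  have h : ∑ q : Q, fixDef p W ((q : H) * z) = ∑ q : Q, fixDef p W (q : H) :=
    Fintype.sum_equiv (Equiv.mulRight (⟨z, hz⟩ : Q)) _ _ fun q => rfl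
  calc Nat.card Q * fixDef p W z = ∑ _q : Q, fixDef p W z := by
        rw [Finset.sum_const, Finset.card_univ, smul_eq_mul, Nat.card_eq_fintype_card]
    _ ≤ ∑ q : Q, (fixDef p W (q : H) + fixDef p W ((q : H) * z)) :=
        Finset.sum_le_sum fun q _ => fixDef_triangle hW _ _
    _ = 2 * ∑ q : Q, fixDef p W (q : H) := by rw [Finset.sum_add_distrib, h]; ring

omit [Finite H] in
theorem fixDef_of_bot {p : ℕ} {W : Subgroup H} {g : H}
    (h : W ⊓ centralizer ({g} : Set H) = ⊥) :
    fixDef p W g = (Nat.card W).factorization p := by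
  rw [fixDef, h, Subgroup.card_bot, Nat.factorization_one, Finsupp.zero_apply, Nat.sub_zero]

/-- A group of operators which commute on `W` and fix no nontrivial element of `W` has average
deficiency at least half of the rank of `W`. -/
theorem abelian_average {p : ℕ} [Fact p.Prime] {V : Subgroup H} (hVp : IsPGroup p V)
    (hVab : ∀ a ∈ V, ∀ b ∈ V, a * b = b * a) (M : Subgroup H) [Fintype M]
    (hcomm : ∀ a ∈ M, ∀ b ∈ M, ∀ v ∈ V, a * b * v * (a * b)⁻¹ = b * a * v * (b * a)⁻¹) :
    ∀ W : Subgroup H, W ≤ V → (∀ m ∈ M, ∀ w ∈ W, m * w * m⁻¹ ∈ W) →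
      W ⊓ centralizer (M : Set H) = ⊥ →
      Nat.card M * (Nat.card W).factorization p ≤ 2 * ∑ m : M, fixDef p W (m : H) := by
  intro W
  induction W using WellFoundedLT.induction with
  | ind W ih =>
    intro hWV hinv hfix
    by_cases hex : ∃ z ∈ M, W ⊓ centralizer ({z} : Set H) = ⊥
    · obtain ⟨z, hz, hz1⟩ := hex
      rw [← fixDef_of_bot hz1]
      exact card_mul_le_two_sum (hVp.to_le hWV) M hz
    push Not at hex
    -- some element acts nontrivially
    obtain ⟨z, hz, hzW⟩ : ∃ z ∈ M, ¬ W ≤ centralizer ({z} : Set H) := by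
      by_contra! hall
      have hW1 : W = ⊥ := by
        rw [eq_bot_iff, ← hfix]
        refine le_inf le_rfl fun w hw => ?_
        rw [mem_centralizer_iff]
        intro m hm
        exact (mem_centralizer_singleton_iff.1 (hall m hm hw)).symm
      exact hex 1 M.one_mem (by rw [hW1, bot_inf_eq])
    let f : W →* W :=
      { toFun := fun w => w⁻¹ * ⟨z * w * z⁻¹, hinv z hz w w.2⟩
        map_one' := by ext; simp
        map_mul' := fun u w => by
          ext
          have hc := hVab ((u : H)⁻¹ * (z * u * z⁻¹))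
            (hWV (W.mul_mem (W.inv_mem u.2) (hinv z hz u u.2))) (w : H)⁻¹
            (hWV (W.inv_mem w.2))
          simp only [Subgroup.coe_mul, Subgroup.coe_inv]
          calc ((u : H) * w)⁻¹ * (z * (u * w) * z⁻¹)
              = ((w : H)⁻¹ * ((u : H)⁻¹ * (z * u * z⁻¹))) * (z * w * z⁻¹) := by group
            _ = _ := by rw [← hc]; group }
    have hfval : ∀ w : W, ((f w : W) : H) = (w : H)⁻¹ * (z * w * z⁻¹) := fun w => rfl
    have hf1 : ∀ w : W, f w = 1 ↔ z * (w : H) = w * z := by
      intro w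
      rw [← Subtype.coe_inj, hfval, OneMemClass.coe_one, inv_mul_eq_one, eq_comm,
        mul_inv_eq_iff_eq_mul]
    set A := W ⊓ centralizer ({z} : Set H) with hA
    set B := f.range.map W.subtype with hB
    have hBW : B ≤ W := map_subtype_le _
    have hmemB : ∀ {x : H}, x ∈ B ↔ ∃ w : W, ((f w : W) : H) = x := by
      intro x
      rw [hB, mem_map]
      constructor
      · rintro ⟨y, ⟨w, rfl⟩, rfl⟩; exact ⟨w, rfl⟩
      · rintro ⟨w, rfl⟩; exact ⟨f w, ⟨w, rfl⟩, rfl⟩
    have hcardB : Nat.card B = Nat.card f.range := by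
      rw [hB]; exact (Nat.card_congr (equivMapOfInjective f.range _
        (subtype_injective W)).toEquiv).symm
    have hcardA : Nat.card A = Nat.card f.ker :=
      (Nat.card_congr
        { toFun := fun w => ⟨((w : W) : H), mem_inf_centralizer_singleton.2
            ⟨(w : W).2, (hf1 _).1 w.2⟩⟩
          invFun := fun a => ⟨⟨a, (mem_inf_centralizer_singleton.1 a.2).1⟩,
            (hf1 _).2 (mem_inf_centralizer_singleton.1 a.2).2⟩
          left_inv := fun w => rfl
          right_inv := fun a => rfl }).symm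
    have hcard : Nat.card W = Nat.card A * Nat.card B := by
      rw [hcardA, hcardB]; exact card_eq_ker_mul_range f
    have hAlt : A < W := lt_of_le_of_ne inf_le_left fun h => hzW (h ▸ inf_le_right)
    have hBlt : B < W := by
      refine lt_of_le_of_ne hBW fun h => hex z hz ?_
      have hB0 : 0 < Nat.card B := Nat.card_pos
      have : Nat.card A = 1 := by
        rw [h] at hcard hB0
        exact (Nat.eq_of_mul_eq_mul_right hB0 (by rw [one_mul]; exact hcard)).symm
      exact card_eq_one.1 this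
    -- conjugation by elements of `M` commutes with conjugation by `z`
    have hswap : ∀ m ∈ M, ∀ w ∈ W,
        z * (m * w * m⁻¹) * z⁻¹ = m * (z * w * z⁻¹) * m⁻¹ := by
      intro m hm w hw
      calc z * (m * w * m⁻¹) * z⁻¹ = z * m * w * (z * m)⁻¹ := by group
        _ = m * z * w * (m * z)⁻¹ := hcomm z hz m hm w (hWV hw)
        _ = _ := by group
    have hAinv : ∀ m ∈ M, ∀ w ∈ A, m * w * m⁻¹ ∈ A := by
      intro m hm w hw
      obtain ⟨hw, hzw⟩ := mem_inf_centralizer_singleton.1 hw
      refine mem_inf_centralizer_singleton.2 ⟨hinv m hm w hw, ?_⟩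
      rw [← mul_inv_eq_iff_eq_mul, hswap m hm w hw, hzw, mul_inv_cancel_right]
    have hfconj : ∀ m (hm : m ∈ M) (w : W),
        ((f ⟨m * w * m⁻¹, hinv m hm w w.2⟩ : W) : H) = m * (f w : W) * m⁻¹ := by
      intro m hm w
      rw [hfval, hfval, hswap m hm w w.2]
      group
    have hBinv : ∀ m ∈ M, ∀ w ∈ B, m * w * m⁻¹ ∈ B := by
      intro m hm x hx
      obtain ⟨w, rfl⟩ := hmemB.1 hx
      exact hmemB.2 ⟨⟨m * w * m⁻¹, hinv m hm w w.2⟩, hfconj m hm w⟩
    have hfixA : A ⊓ centralizer (M : Set H) = ⊥ :=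
      eq_bot_iff.2 (hfix ▸ inf_le_inf_right _ hAlt.le)
    have hfixB : B ⊓ centralizer (M : Set H) = ⊥ :=
      eq_bot_iff.2 (hfix ▸ inf_le_inf_right _ hBlt.le)
    have hadd : ∀ m : M, fixDef p A (m : H) + fixDef p B (m : H) ≤ fixDef p W (m : H) := by
      intro m
      set Cm := W ⊓ centralizer ({(m : H)} : Set H)
      let g : Cm →* H := W.subtype.comp (f.comp (Subgroup.inclusion inf_le_left))
      have hg : ∀ x : Cm, g x = ((f ⟨x, x.2.1⟩ : W) : H) := fun x => rfl
      have hker : Nat.card g.ker ∣ Nat.card ↥(A ⊓ centralizer ({(m : H)} : Set H)) := by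
        have hsub : g.ker.map Cm.subtype ≤ A ⊓ centralizer ({(m : H)} : Set H) := by
          rintro x ⟨y, hy, rfl⟩
          have h0 : f ⟨y, y.2.1⟩ = 1 := Subtype.ext (hy : g y = 1)
          exact ⟨mem_inf_centralizer_singleton.2 ⟨y.2.1, (hf1 _).1 h0⟩, y.2.2⟩
        have := card_dvd_of_le hsub
        rwa [card_map_of_injective (subtype_injective Cm)] at this
      have hrange : Nat.card g.range ∣ Nat.card ↥(B ⊓ centralizer ({(m : H)} : Set H)) := by
        refine card_dvd_of_le ?_
        rintro x ⟨y, rfl⟩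
        refine mem_inf_centralizer_singleton.2 ⟨hmemB.2 ⟨_, (hg y).symm⟩, ?_⟩
        obtain ⟨hyW, hym⟩ := mem_inf_centralizer_singleton.1 y.2
        have hy' : (⟨(m : H) * y * (m : H)⁻¹, hinv m m.2 y hyW⟩ : W) = ⟨y, hyW⟩ :=
          Subtype.ext (show (m : H) * y * (m : H)⁻¹ = y by rw [hym, mul_inv_cancel_right])
        have hc := hfconj m m.2 ⟨y, hyW⟩
        rw [hy', eq_mul_inv_iff_mul_eq] at hc
        rw [hg]
        exact hc.symm
      have hle : (Nat.card Cm).factorization p ≤
          (Nat.card ↥(A ⊓ centralizer ({(m : H)} : Set H))).factorization p +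
            (Nat.card ↥(B ⊓ centralizer ({(m : H)} : Set H))).factorization p := by
        refine factorization_le_add Nat.card_pos.ne' Nat.card_pos.ne' ?_
        rw [card_eq_ker_mul_range g]
        exact mul_dvd_mul hker hrange
      have h1 : fixDef p W (m : H) + (Nat.card Cm).factorization p =
          (Nat.card W).factorization p := fixDef_add p W (m : H)
      have h2 := fixDef_add p A (m : H)
      have h3 := fixDef_add p B (m : H)
      have h4 : (Nat.card W).factorization p =
          (Nat.card A).factorization p + (Nat.card B).factorization p := by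
        rw [hcard, Nat.factorization_mul Nat.card_pos.ne' Nat.card_pos.ne', Finsupp.add_apply]
      omega
    have iA := ih A hAlt (hAlt.le.trans hWV) hAinv hfixA
    have iB := ih B hBlt (hBW.trans hWV) hBinv hfixB
    have hs := Finset.sum_le_sum (s := Finset.univ) fun m (_ : m ∈ Finset.univ) => hadd m
    rw [Finset.sum_add_distrib] at hs
    rw [hcard, Nat.factorization_mul Nat.card_pos.ne' Nat.card_pos.ne', Finsupp.add_apply,
      Nat.mul_add]
    omega

omit [Finite H] in
theorem inf_centralizer_eq_bot {V : Subgroup H} [V.Normal]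
    (hmin : ∀ N : Subgroup H, N.Normal → N ≤ V → N = ⊥ ∨ N = V) (S : Subgroup H) [S.Normal]
    (hS : ¬ S ≤ centralizer (V : Set H)) : V ⊓ centralizer (S : Set H) = ⊥ := by
  refine (hmin _ inferInstance inf_le_left).resolve_right fun h => hS ?_
  exact le_centralizer_iff.1 (h ▸ inf_le_right)

/-- A solvable group acting nontrivially on a minimal normal abelian subgroup. -/
theorem solvable_average [Fintype H] [Group.IsSolvable H] {p : ℕ} [Fact p.Prime] {V : Subgroup H}
    [V.Normal] (hVp : IsPGroup p V) (hVab : ∀ a ∈ V, ∀ b ∈ V, a * b = b * a)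
    (hmin : ∀ N : Subgroup H, N.Normal → N ≤ V → N = ⊥ ∨ N = V)
    (hnc : ¬ V ≤ center H) :
    Fintype.card H * (Nat.card V).factorization p ≤ 4 * ∑ h : H, fixDef p V h := by
  classical
  obtain ⟨n, hn⟩ := (Group.IsSolvable.solvable : ∃ n, derivedSeries H n = ⊥)
  have hex : ∃ i, derivedSeries H i ≤ centralizer (V : Set H) := ⟨n, hn ▸ bot_le⟩
  obtain ⟨j, hj⟩ : ∃ j, Nat.find hex = j + 1 := by
    refine Nat.exists_eq_succ_of_ne_zero fun h0 => hnc fun v hv => ?_
    have h := Nat.find_spec hex
    rw [h0, derivedSeries_zero] at h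
    rw [mem_center_iff]
    intro g
    exact (mem_centralizer_iff.1 (h (mem_top g)) v hv).symm
  set M := derivedSeries H j with hMdef
  have hM : ¬ M ≤ centralizer (V : Set H) := Nat.find_min hex (by omega)
  have : M.Normal := derivedSeries_normal H j
  have hM1 : ⁅M, M⁆ ≤ centralizer (V : Set H) := by
    have h := Nat.find_spec hex
    rwa [hj, derivedSeries_succ] at h
  have hcomm : ∀ a ∈ M, ∀ b ∈ M, ∀ v ∈ V,
      a * b * v * (a * b)⁻¹ = b * a * v * (b * a)⁻¹ := by
    intro a ha b hb v hv
    have h := mem_centralizer_iff.1 (hM1 (commutator_mem_commutator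
      (M.inv_mem hb) (M.inv_mem ha))) v hv
    rw [commutatorElement_def, inv_inv, inv_inv] at h
    calc a * b * v * (a * b)⁻¹
        = a * b * ((v * (b⁻¹ * a⁻¹ * b * a)) * (b⁻¹ * a⁻¹ * b * a)⁻¹) * (a * b)⁻¹ := by group
      _ = a * b * ((b⁻¹ * a⁻¹ * b * a * v) * (b⁻¹ * a⁻¹ * b * a)⁻¹) * (a * b)⁻¹ := by rw [h]
      _ = _ := by group
  have h1 := abelian_average hVp hVab M hcomm V le_rfl
    (fun m _ w hw => Subgroup.Normal.conj_mem inferInstance w hw m)
    (inf_centralizer_eq_bot hmin M hM)
  have h2 : ∀ m : M, Fintype.card H * fixDef p V (m : H) ≤ 2 * ∑ h : H, fixDef p V h := by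
    intro m
    have h := card_mul_le_two_sum hVp (⊤ : Subgroup H) (mem_top (m : H))
    rw [Subgroup.card_top, Nat.card_eq_fintype_card] at h
    rwa [Fintype.sum_equiv Subgroup.topEquiv.toEquiv (fun q : (⊤ : Subgroup H) => fixDef p V (q : H))
      (fun x => fixDef p V x) fun q => rfl] at h
  have h3 : Fintype.card H * ∑ m : M, fixDef p V (m : H) ≤
      Nat.card M * (2 * ∑ h : H, fixDef p V h) := by
    rw [Finset.mul_sum]
    calc _ ≤ ∑ _m : M, 2 * ∑ h : H, fixDef p V h := Finset.sum_le_sum fun m _ => h2 m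
      _ = _ := by rw [Finset.sum_const, Finset.card_univ, smul_eq_mul, Nat.card_eq_fintype_card]
  refine Nat.le_of_mul_le_mul_left ?_ (Nat.card_pos (α := M))
  calc Nat.card M * (Fintype.card H * (Nat.card V).factorization p)
      = Fintype.card H * (Nat.card M * (Nat.card V).factorization p) := by ring
    _ ≤ Fintype.card H * (2 * ∑ m : M, fixDef p V (m : H)) := Nat.mul_le_mul_left _ h1
    _ ≤ _ := by nlinarith

omit [Finite H] in
theorem normal_inf_centralizer_of_central {V : Subgroup H} [V.Normal] {z : H}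
    (hzc : ∀ g : H, g * z * g⁻¹ * z⁻¹ ∈ centralizer (V : Set H)) :
    (V ⊓ centralizer ({z} : Set H)).Normal := by
  refine ⟨fun v hv g => ?_⟩
  obtain ⟨hv, hzv⟩ := mem_inf_centralizer_singleton.1 hv
  have hgv : g * v * g⁻¹ ∈ V := Subgroup.Normal.conj_mem inferInstance v hv g
  refine mem_inf_centralizer_singleton.2 ⟨hgv, ?_⟩
  set c := g * z * g⁻¹ * z⁻¹ with hc
  have hcw := mem_centralizer_iff.1 (hzc g) _ hgv
  have hgz : g * z = c * z * g := by rw [hc]; group
  have : c * (z * (g * v * g⁻¹)) = c * ((g * v * g⁻¹) * z) := by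
    calc c * (z * (g * v * g⁻¹)) = (c * z * g) * v * g⁻¹ := by group
      _ = g * z * v * g⁻¹ := by rw [← hgz]
      _ = g * (z * v) * g⁻¹ := by group
      _ = g * (v * z) * g⁻¹ := by rw [hzv]
      _ = (g * v * g⁻¹) * (g * z) * g⁻¹ := by group
      _ = (g * v * g⁻¹) * (c * z * g) * g⁻¹ := by rw [hgz]
      _ = ((g * v * g⁻¹) * c) * z := by group
      _ = (c * (g * v * g⁻¹)) * z := by rw [hcw]
      _ = _ := by group
  exact mul_left_cancel this

/-- A subgroup containing an element which is central modulo the centralizer of `V`. -/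
theorem central_average {p : ℕ} [Fact p.Prime] {V : Subgroup H} [V.Normal] (hVp : IsPGroup p V)
    (hmin : ∀ N : Subgroup H, N.Normal → N ≤ V → N = ⊥ ∨ N = V) (Q : Subgroup H) [Fintype Q]
    {z : H} (hzQ : z ∈ Q) (hz : z ∉ centralizer (V : Set H))
    (hzc : ∀ g : H, g * z * g⁻¹ * z⁻¹ ∈ centralizer (V : Set H)) :
    Nat.card Q * (Nat.card V).factorization p ≤ 2 * ∑ q : Q, fixDef p V (q : H) := by
  have hN := normal_inf_centralizer_of_central hzc
  rcases hmin _ hN inf_le_left with h | h
  · rw [← fixDef_of_bot h]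
    exact card_mul_le_two_sum hVp Q hzQ
  · refine absurd (mem_centralizer_iff.2 fun v hv => ?_) hz
    have hv' := h.symm ▸ (show v ∈ V from hv)
    exact (mem_inf_centralizer_singleton.1 hv').2.symm

end Cfsg.Agent.Lib.PrimitiveDegree
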