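import Mathlib
import Cfsg.Agent.Lib.PrimitiveDegree.Fixed
import Cfsg.Agent.Lib.Clifford.GoingDown
import Cfsg.Agent.Lib.Chars.PResidualDegree

/-!
# Degrees of primitive characters of solvable groups

The square of the degree of a primitive character of a solvable group is a product of orders of
fully ramified chief factors, on each of which the group acts nontrivially.  Together with a bound
for average fixed-space deficiencies this bounds the degree by a class size.
-/

set_option autoImplicit false

namespace Cfsg.Agent.Lib.PrimitiveDegree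

open Subgroup
open scoped commutatorElement
open Cfsg.Agent.Lib

variable {G : Type*} [Group G] [Fintype G]

/-- Restrictions of a primitive character to normal subgroups are homogeneous. -/
theorem exists_invariant_constituent {χ : G → ℂ} (hχ : Cfsg.IsIrrCharacter G χ)
    (hprim : ¬ ∃ (H : Subgroup G), H ≠ ⊤ ∧ ∃ θ : ↥H → ℂ, Cfsg.IsCharacter ↥H θ ∧
      Cfsg.indFun H θ = χ) (N : Subgroup G) [N.Normal] :
    ∃ (θ : N → ℂ) (e : ℕ), Cfsg.IsIrrCharacter N θ ∧ e ≠ 0 ∧
      Clifford.resFun N χ = (e : ℂ) • θ ∧ ∀ g : G, Clifford.conjFun g θ = θ := by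
  classical
  have := Fintype.ofFinite N
  obtain ⟨m, hm⟩ := Chars.isCharacter_exists_nat_decomp
    (Chars.isCharacter_restrict N (Chars.isCharacter_of_isIrrCharacter hχ))
  obtain ⟨θ, hθ⟩ : ∃ θ, m θ ≠ 0 := by
    by_contra h
    push Not at h
    have := congrFun hm 1
    simp [h] at this
    exact Chars.irr_apply_one_ne_zero ⟨χ, hχ⟩ this
  have hcon : Cfsg.classInner (Clifford.resFun N χ) (θ : N → ℂ) = m θ := by
    show Cfsg.classInner (fun x : N => χ x) _ = _
    rw [hm, Chars.classInner_sum_smul_irr]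
  have hcon0 : Cfsg.classInner (Clifford.resFun N χ) (θ : N → ℂ) ≠ 0 := by
    rw [hcon, Nat.cast_ne_zero]; exact hθ
  let T : Subgroup G :=
    { carrier := {g | Clifford.conjFun g (θ : N → ℂ) = θ}
      one_mem' := Clifford.conjFun_one _
      mul_mem' := fun {a b} ha hb => by
        show Clifford.conjFun (a * b) (θ : N → ℂ) = θ
        rw [Clifford.conjFun_mul, ha, hb]
      inv_mem' := fun {a} ha => by
        show Clifford.conjFun a⁻¹ (θ : N → ℂ) = θ
        have ha' : Clifford.conjFun a (θ : N → ℂ) = θ := ha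
        conv_lhs => rw [← ha']
        rw [← Clifford.conjFun_mul, mul_inv_cancel, Clifford.conjFun_one] }
  have hNT : N ≤ T := fun l hl => funext fun n =>
    Chars.irr_isClassFunction θ n ⟨l, hl⟩
  have hT : T = ⊤ := by
    by_contra hne
    have := Fintype.ofFinite T
    obtain ⟨ψ, hψ, hind, -⟩ :=
      Clifford.exists_clifford_correspondent θ.2 (T := T) (fun g => Iff.rfl) hNT hχ hcon0
    exact hprim ⟨T, hne, ψ, Chars.isCharacter_of_isIrrCharacter hψ, hind⟩
  have hinv : ∀ g : G, Clifford.conjFun g (θ : N → ℂ) = θ := fun g =>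
    (hT ▸ mem_top g : g ∈ T)
  refine ⟨θ, m θ, θ.2, hθ, ?_, hinv⟩
  rw [← hcon]
  exact Clifford.resFun_eq_smul_of_invariant hχ θ.2 hcon0 hinv

/-- A minimal normal subgroup which is abelian and has order divisible by `p` is a `p`-group. -/
theorem isPGroup_of_minimal {H : Type*} [Group H] [Finite H] {p : ℕ} [hp : Fact p.Prime]
    {V : Subgroup H} [V.Normal] (hmin : ∀ N : Subgroup H, N.Normal → N ≤ V → N = ⊥ ∨ N = V)
    (hab : ∀ a ∈ V, ∀ b ∈ V, a * b = b * a) (hdvd : p ∣ Nat.card V) : IsPGroup p V := by
  let W : Subgroup H :=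
    { carrier := {x | x ∈ V ∧ x ^ p = 1}
      one_mem' := ⟨V.one_mem, one_pow p⟩
      mul_mem' := fun {a b} ha hb => ⟨V.mul_mem ha.1 hb.1, by
        rw [Commute.mul_pow (hab a ha.1 b hb.1), ha.2, hb.2, one_mul]⟩
      inv_mem' := fun {a} ha => ⟨V.inv_mem ha.1, by rw [inv_pow, ha.2, inv_one]⟩ }
  have hWn : W.Normal := ⟨fun x hx g =>
    ⟨Subgroup.Normal.conj_mem inferInstance x hx.1 g, by rw [conj_pow, hx.2]; group⟩⟩
  obtain ⟨x, hx⟩ := exists_prime_orderOf_dvd_card' p hdvd
  rcases hmin W hWn (fun y hy => hy.1) with h | h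
  · exfalso
    have hxW : (x : H) ∈ W := ⟨x.2, by
      rw [← Subgroup.coe_pow, ← hx, pow_orderOf_eq_one, Subgroup.coe_one]⟩
    rw [h, mem_bot, OneMemClass.coe_eq_one] at hxW
    rw [hxW, orderOf_one] at hx
    exact hp.out.ne_one hx.symm
  · intro x
    refine ⟨1, Subtype.ext ?_⟩
    have : (x : H) ∈ W := by rw [h]; exact x.2
    rw [pow_one, Subgroup.coe_pow, this.2, Subgroup.coe_one]

/-- An abelian minimal normal subgroup which is central has prime order. -/
theorem card_of_minimal_central {H : Type*} [Group H] [Finite H] {p : ℕ} [hp : Fact p.Prime]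
    {V : Subgroup H} (hmin : ∀ N : Subgroup H, N.Normal → N ≤ V → N = ⊥ ∨ N = V)
    (_hV : IsPGroup p V) (hdvd : p ∣ Nat.card V) (hc : V ≤ center H) : Nat.card V = p := by
  obtain ⟨x, hx⟩ := exists_prime_orderOf_dvd_card' p hdvd
  have hn : (zpowers (x : H)).Normal := by
    refine ⟨fun y hy g => ?_⟩
    have hyc : y ∈ center H := hc ((zpowers_le.2 x.2) hy)
    rw [mem_center_iff.1 hyc g, mul_inv_cancel_right]
    exact hy
  have ho : Nat.card (zpowers (x : H)) = p := by
    rw [Nat.card_zpowers, Subgroup.orderOf_coe, hx]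
  rcases hmin _ hn (zpowers_le.2 x.2) with h | h
  · rw [h, Subgroup.card_bot] at ho
    exact absurd ho.symm hp.out.ne_one
  · rw [← h, ho]

omit [Fintype G] in
theorem card_eq_card_mul_card_map {K L : Subgroup G} [L.Normal] (hLK : L ≤ K) :
    Nat.card K = Nat.card L * Nat.card (K.map (QuotientGroup.mk' L)) := by
  rw [card_eq_ker_mul_range ((QuotientGroup.mk' L).comp K.subtype), MonoidHom.range_comp,
    Subgroup.range_subtype]
  congr 1
  rw [← MonoidHom.comap_ker, QuotientGroup.ker_mk']
  exact Nat.card_congr (subgroupOfEquivOfLe hLK).toEquiv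

/-- Deficiencies are superadditive along normal series. -/
theorem fixDef_add_le (p : ℕ) {K L : Subgroup G} [L.Normal] (hLK : L ≤ K) (g : G) :
    fixDef p L g + fixDef p (K.map (QuotientGroup.mk' L)) (g : G ⧸ L) ≤ fixDef p K g := by
  set Cg := K ⊓ centralizer ({g} : Set G)
  let f : Cg →* G ⧸ L := (QuotientGroup.mk' L).comp Cg.subtype
  have hker : Nat.card f.ker ∣ Nat.card ↥(L ⊓ centralizer ({g} : Set G)) := by
    have hsub : f.ker.map Cg.subtype ≤ L ⊓ centralizer ({g} : Set G) := by
      rintro x ⟨y, hy, rfl⟩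
      exact ⟨(QuotientGroup.eq_one_iff _).1 hy, y.2.2⟩
    have := card_dvd_of_le hsub
    rwa [card_map_of_injective (subtype_injective Cg)] at this
  have hrange : Nat.card f.range ∣
      Nat.card ↥(K.map (QuotientGroup.mk' L) ⊓ centralizer ({(g : G ⧸ L)} : Set (G ⧸ L))) := by
    refine card_dvd_of_le ?_
    rintro x ⟨y, rfl⟩
    obtain ⟨hy, hgy⟩ := mem_inf_centralizer_singleton.1 y.2
    refine mem_inf_centralizer_singleton.2 ⟨mem_map.2 ⟨y, hy, rfl⟩, ?_⟩
    show ((g : G) : G ⧸ L) * ((y : G) : G ⧸ L) = ((y : G) : G ⧸ L) * (g : G ⧸ L)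
    rw [← QuotientGroup.mk_mul, hgy, QuotientGroup.mk_mul]
  have hle : (Nat.card Cg).factorization p ≤
      (Nat.card ↥(L ⊓ centralizer ({g} : Set G))).factorization p +
      (Nat.card ↥(K.map (QuotientGroup.mk' L) ⊓
        centralizer ({(g : G ⧸ L)} : Set (G ⧸ L)))).factorization p := by
    refine factorization_le_add Nat.card_pos.ne' Nat.card_pos.ne' ?_
    rw [card_eq_ker_mul_range f]
    exact mul_dvd_mul hker hrange
  have h1 : fixDef p K g + (Nat.card Cg).factorization p = (Nat.card K).factorization p :=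
    fixDef_add p K g
  have h2 := fixDef_add p L g
  have h3 := fixDef_add p (K.map (QuotientGroup.mk' L)) (g : G ⧸ L)
  have h4 : (Nat.card K).factorization p = (Nat.card L).factorization p +
      (Nat.card (K.map (QuotientGroup.mk' L))).factorization p := by
    rw [card_eq_card_mul_card_map hLK, Nat.factorization_mul Nat.card_pos.ne' Nat.card_pos.ne',
      Finsupp.add_apply]
  omega

theorem fixDef_top (p : ℕ) (g : G) :
    fixDef p (⊤ : Subgroup G) g = (centralizer ({g} : Set G)).index.factorization p := by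
  have h1 := fixDef_add p (⊤ : Subgroup G) g
  rw [top_inf_eq, Subgroup.card_top, ← (centralizer ({g} : Set G)).card_mul_index,
    Nat.factorization_mul Nat.card_pos.ne' FiniteIndex.index_ne_zero, Finsupp.add_apply] at h1
  omega

/-- The chief factor hypothesis: `G` acts on each noncentral minimal normal `p`-subgroup of a
quotient so that the elements of `P` do not matter and the average deficiency over `S` is large. -/
def FactorBound (p c : ℕ) (S : Finset G) (P : Set G) : Prop :=
  ∀ (L : Subgroup G) [L.Normal] (V : Subgroup (G ⧸ L)), V.Normal → IsPGroup p V →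
    (∀ a ∈ V, ∀ b ∈ V, a * b = b * a) →
    (∀ N : Subgroup (G ⧸ L), N.Normal → N ≤ V → N = ⊥ ∨ N = V) → ¬ V ≤ center (G ⧸ L) →
    (∀ g : G, ∀ y ∈ P, fixDef p V ((g * y : G) : G ⧸ L) = fixDef p V (g : G ⧸ L)) ∧
      S.card * (Nat.card V).factorization p ≤ c * ∑ s ∈ S, fixDef p V (s : G ⧸ L)

/-- The main induction along a chief series. -/
theorem exists_deficiency [Group.IsSolvable G] {χ : G → ℂ} (hχ : Cfsg.IsIrrCharacter G χ)
    (hprim : ¬ ∃ (H : Subgroup G), H ≠ ⊤ ∧ ∃ θ : ↥H → ℂ, Cfsg.IsCharacter ↥H θ ∧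
      Cfsg.indFun H θ = χ) {p : ℕ} [Fact p.Prime] {c : ℕ} {S : Finset G} {P : Set G}
    (hfac : FactorBound p c S P) :
    ∀ K : Subgroup G, K.Normal → ∀ (θ : K → ℂ) (d e : ℕ), Cfsg.IsIrrCharacter K θ →
      θ 1 = (d : ℂ) → e ≠ 0 → Clifford.resFun K χ = (e : ℂ) • θ →
      ∃ D : G → ℕ, (∀ g, D g ≤ fixDef p K g) ∧ (∀ g, ∀ y ∈ P, D (g * y) = D g) ∧
        2 * S.card * d.factorization p ≤ c * ∑ s ∈ S, D s := by
  classical
  intro K
  induction K using WellFoundedLT.induction with
  | ind K ih =>
    intro hK θ d e hθ hd he0 hres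
    have := Fintype.ofFinite K
    by_cases hK1 : K = ⊥
    · subst hK1
      have : IsMulCommutative (⊥ : Subgroup G) :=
        ⟨⟨fun a b => Subsingleton.elim _ _⟩⟩
      have h1 := Chars.irr_apply_one_of_comm ⟨θ, hθ⟩
      replace h1 : θ 1 = 1 := h1
      rw [hd, Nat.cast_eq_one] at h1
      exact ⟨fun _ => 0, fun g => Nat.zero_le _, fun _ _ _ => rfl, by simp [h1]⟩
    -- a maximal normal subgroup below `K`
    obtain ⟨L, hLmem, hLmax⟩ := Finset.exists_max_image
      (Finset.univ.filter fun L : Subgroup G => L.Normal ∧ L < K) (fun L => Nat.card L)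
      ⟨⊥, Finset.mem_filter.2 ⟨Finset.mem_univ _, inferInstance, bot_lt_iff_ne_bot.2 hK1⟩⟩
    obtain ⟨-, hLn, hLK⟩ := Finset.mem_filter.1 hLmem
    have hchief : ∀ M : Subgroup G, M.Normal → L ≤ M → M ≤ K → M = L ∨ M = K := by
      intro M hM hLM hMK
      by_cases h : M = K
      · exact Or.inr h
      · exact Or.inl (Subgroup.eq_of_le_of_card_ge hLM
          (hLmax M (Finset.mem_filter.2 ⟨Finset.mem_univ _, hM, lt_of_le_of_ne hMK h⟩))).symm
    have hab : ⁅K, K⁆ ≤ L := by
      rcases hchief (L ⊔ ⁅K, K⁆) inferInstance le_sup_left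
        (sup_le hLK.le (commutator_le_left K K)) with h | h
      · exact h ▸ le_sup_right
      · exfalso
        obtain ⟨n, hn⟩ := (Group.IsSolvable.solvable : ∃ n, derivedSeries G n = ⊥)
        have hall : ∀ i, K ≤ L ⊔ derivedSeries G i := by
          intro i
          induction i with
          | zero => simp [derivedSeries_zero]
          | succ i ihi =>
            refine h.symm.le.trans (sup_le le_sup_left ?_)
            refine (commutator_mono ihi ihi).trans ?_
            rw [derivedSeries_succ]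
            have hN : (L ⊔ ⁅derivedSeries G i, derivedSeries G i⁆).Normal := inferInstance
            refine commutator_le.2 fun a ha b hb => ?_
            obtain ⟨l₁, hl₁, x₁, hx₁, rfl⟩ := mem_sup_of_normal_left.1 ha
            obtain ⟨l₂, hl₂, x₂, hx₂, rfl⟩ := mem_sup_of_normal_left.1 hb
            rw [← QuotientGroup.eq_one_iff (N := L ⊔ ⁅derivedSeries G i, derivedSeries G i⁆)]
            have e1 : ∀ l ∈ L,
                ((l : G) : G ⧸ (L ⊔ ⁅derivedSeries G i, derivedSeries G i⁆)) = 1 := fun l hl =>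
              (QuotientGroup.eq_one_iff l).2 (mem_sup_left hl)
            have e2 : (((x₁ * x₂ * x₁⁻¹ * x₂⁻¹ : G)) :
                G ⧸ (L ⊔ ⁅derivedSeries G i, derivedSeries G i⁆)) = 1 :=
              (QuotientGroup.eq_one_iff _).2 (mem_sup_right (by
                have h2 := commutator_mem_commutator hx₁ hx₂
                rwa [commutatorElement_def] at h2))
            simp only [commutatorElement_def, QuotientGroup.mk_mul, QuotientGroup.mk_inv] at e2 ⊢
            simp only [e1 l₁ hl₁, e1 l₂ hl₂, one_mul]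
            exact e2
        exact hLK.ne (le_antisymm hLK.le (by simpa [hn] using hall n))
    have := Fintype.ofFinite L
    obtain ⟨φ, a, hφ, ha0, hresL, hφinv⟩ := exists_invariant_constituent hχ hprim L
    obtain ⟨dφ, -, hdφ⟩ := Chars.isIrrCharacter_exists_degree_pos hφ
    obtain ⟨D, hD1, hD2, hD3⟩ := ih L hLK hLn φ dφ a hφ hdφ ha0 hresL
    -- `θ` is invariant
    have hinv : ∀ g : G, Clifford.conjFun g θ = θ := by
      intro g
      have h := Clifford.conjFun_resFun (N := K) g (Chars.irr_isClassFunction ⟨χ, hχ⟩)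
      rw [hres] at h
      funext k
      have h' := congrFun h k
      simp only [Clifford.conjFun, Pi.smul_apply, smul_eq_mul] at h'
      exact mul_left_cancel₀ (Nat.cast_ne_zero.mpr he0) h'
    have hcmp : (e : ℂ) • Clifford.resTo hLK.le θ = (a : ℂ) • φ := by
      rw [← hresL]
      funext l
      exact (congrFun hres ⟨(l : G), hLK.le l.2⟩).symm
    have hinner : ∀ {ψ : L → ℂ}, Cfsg.IsIrrCharacter L ψ → φ ≠ ψ →
        Cfsg.classInner (Clifford.resTo hLK.le θ) ψ = 0 := by
      intro ψ hψ hne
      have h := congrArg (fun f => Cfsg.classInner f ψ) hcmp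
      simp only [Chars.classInner_smul_left, Chars.classInner_irr_of_ne
        (χ := ⟨φ, hφ⟩) (ψ := ⟨ψ, hψ⟩) fun h => hne (congrArg Subtype.val h), mul_zero] at h
      exact (mul_eq_zero.1 h).resolve_left (Nat.cast_ne_zero.mpr he0)
    have hmap : (L.relIndex K) = Nat.card (K.map (QuotientGroup.mk' L)) :=
      Nat.eq_of_mul_eq_mul_left (Nat.card_pos (α := L)) (by
        rw [← card_eq_card_mul_card_map hLK.le, ← relIndex_bot_left, ← relIndex_bot_left,
          relIndex_mul_relIndex ⊥ L K bot_le hLK.le])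
    rcases Clifford.going_down K L hLK hchief hab hθ hinv with
      h | ⟨ψ, f, hψ, hf, hfsq⟩ | ⟨F, hF, hFc, hFs⟩
    · -- irreducible restriction
      have heq : φ = Clifford.resTo hLK.le θ := by
        by_contra hne
        have h0 := hinner h hne
        rw [Chars.classInner_irr_self ⟨_, h⟩] at h0
        exact one_ne_zero h0
      have hdd : d = dφ := by
        have h1 := congrFun heq 1
        rw [hdφ] at h1
        exact_mod_cast (h1.trans hd).symm
      exact ⟨D, fun g => (hD1 g).trans ((Nat.le_add_right _ _).trans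
        (fixDef_add_le p hLK.le g)), hD2, hdd ▸ hD3⟩
    · -- fully ramified
      have hψφ : φ = ψ := by
        by_contra hne
        have h0 := hinner hψ hne
        rw [hf, Chars.classInner_smul_left, Chars.classInner_irr_self ⟨ψ, hψ⟩, mul_one,
          Nat.cast_eq_zero] at h0
        rw [h0, zero_pow two_ne_zero] at hfsq
        exact (FiniteIndex.index_ne_zero (H := L.subgroupOf K)) hfsq.symm
      subst hψφ
      have hdd : d = f * dφ := by
        have h1 := congrFun hf 1
        rw [Pi.smul_apply, smul_eq_mul, hdφ] at h1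
        exact_mod_cast (hd.symm.trans h1)
      have hf0 : f ≠ 0 := fun h => by
        rw [h, zero_pow two_ne_zero] at hfsq
        exact (FiniteIndex.index_ne_zero (H := L.subgroupOf K)) hfsq.symm
      have hdφ0 : dφ ≠ 0 := fun h => Chars.irr_apply_one_ne_zero ⟨φ, hφ⟩ (by
        show φ 1 = 0; rw [hdφ, h, Nat.cast_zero])
      have hvd : d.factorization p = f.factorization p + dφ.factorization p := by
        rw [hdd, Nat.factorization_mul hf0 hdφ0, Finsupp.add_apply]
      by_cases hpf : p ∣ f
      swap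
      · refine ⟨D, fun g => (hD1 g).trans ((Nat.le_add_right _ _).trans
          (fixDef_add_le p hLK.le g)), hD2, ?_⟩
        rw [hvd, Nat.factorization_eq_zero_of_not_dvd hpf, zero_add]
        exact hD3
      set V := K.map (QuotientGroup.mk' L) with hV
      have hVn : V.Normal := hK.map _ (QuotientGroup.mk'_surjective L)
      have hVab : ∀ x ∈ V, ∀ y ∈ V, x * y = y * x := by
        rintro _ ⟨x, hx, rfl⟩ _ ⟨y, hy, rfl⟩
        rw [← commutatorElement_eq_one_iff_mul_comm, ← map_commutatorElement]
        exact (QuotientGroup.eq_one_iff _).2 (hab (commutator_mem_commutator hx hy))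
      have hVmin : ∀ N : Subgroup (G ⧸ L), N.Normal → N ≤ V → N = ⊥ ∨ N = V := by
        intro N hN hNV
        have hle : N.comap (QuotientGroup.mk' L) ≤ K := by
          refine (Subgroup.comap_mono hNV).trans ?_
          rw [hV, comap_map_eq, QuotientGroup.ker_mk', sup_eq_left.2 hLK.le]
        rcases hchief _ (hN.comap _) (fun l hl => by
            rw [mem_comap, QuotientGroup.mk'_apply, (QuotientGroup.eq_one_iff l).2 hl]
            exact N.one_mem) hle with h | h
        · left
          rw [← map_comap_eq_self_of_surjective (QuotientGroup.mk'_surjective L) N, h,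
            Subgroup.map_eq_bot_iff, QuotientGroup.ker_mk']
        · right
          rw [← map_comap_eq_self_of_surjective (QuotientGroup.mk'_surjective L) N, h]
      have hpV : p ∣ Nat.card V := by
        rw [← hmap, ← hfsq]
        exact dvd_pow hpf two_ne_zero
      have hVp : IsPGroup p V := isPGroup_of_minimal hVmin hVab hpV
      have hVnc : ¬ V ≤ center (G ⧸ L) := by
        intro hc
        have h := card_of_minimal_central hVmin hVp hpV hc
        rw [← hmap, ← hfsq] at h
        have := congrArg (fun n => n.factorization p) h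
        simp only [Nat.factorization_pow, Finsupp.smul_apply, smul_eq_mul,
          (Fact.out : p.Prime).factorization_self] at this
        omega
      obtain ⟨hinvP, hS⟩ := hfac L V hVn hVp hVab hVmin hVnc
      refine ⟨fun g => D g + fixDef p V (g : G ⧸ L), fun g => (Nat.add_le_add_right (hD1 g) _).trans
        (fixDef_add_le p hLK.le g), fun g y hy => by simp only [hD2 g y hy, hinvP g y hy], ?_⟩
      have hvV : (Nat.card V).factorization p = 2 * f.factorization p := by
        rw [← hmap, ← hfsq, Nat.factorization_pow, Finsupp.smul_apply, smul_eq_mul]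
      rw [hvd, Finset.sum_add_distrib, Nat.mul_add, Nat.mul_add]
      rw [hvV] at hS
      nlinarith
    · -- the orbit case contradicts primitivity
      exfalso
      have hone : ∀ ψ ∈ F, φ = ψ := by
        intro ψ hψ
        by_contra hne
        have h0 := hinner (hF ψ hψ) hne
        rw [hFs, Chars.classInner_sum_left, Finset.sum_eq_single_of_mem ψ hψ,
          Chars.classInner_irr_self ⟨ψ, hF ψ hψ⟩] at h0
        · exact one_ne_zero h0
        · intro b hb hbψ
          exact Chars.classInner_irr_of_ne (χ := ⟨b, hF b hb⟩) (ψ := ⟨ψ, hF ψ hψ⟩)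
            fun h => hbψ (congrArg Subtype.val h)
      have h1 : F.card ≤ 1 := Finset.card_le_one.2 fun x hx y hy =>
        ((hone x hx).symm.trans (hone y hy))
      rw [hFc] at h1
      have h2 : L.relIndex K ≠ 1 := fun h => hLK.not_ge (relIndex_eq_one.1 h)
      have h3 : L.relIndex K ≠ 0 := (FiniteIndex.index_ne_zero (H := L.subgroupOf K))
      omega

/-- The degree of a primitive character bounded by average deficiencies. -/
theorem exists_deficiency_top [Group.IsSolvable G] (χ : Cfsg.IrrCharacter G)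
    (hprim : ¬ ∃ (H : Subgroup G), H ≠ ⊤ ∧ ∃ θ : ↥H → ℂ, Cfsg.IsCharacter ↥H θ ∧
      Cfsg.indFun H θ = (χ : G → ℂ)) {p : ℕ} [Fact p.Prime] {c : ℕ} {S : Finset G} {P : Set G}
    (hfac : FactorBound p c S P) :
    ∃ D : G → ℕ, (∀ g, D g ≤ (centralizer ({g} : Set G)).index.factorization p) ∧
      (∀ g, ∀ y ∈ P, D (g * y) = D g) ∧
      2 * S.card * (Cfsg.charDegree (χ : G → ℂ)).factorization p ≤ c * ∑ s ∈ S, D s := by
  obtain ⟨D, h1, h2, h3⟩ := exists_deficiency χ.2 hprim hfac ⊤ inferInstance
    (Clifford.resFun ⊤ (χ : G → ℂ)) (Cfsg.charDegree (χ : G → ℂ)) 1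
    (Clifford.isIrrCharacter_comp_equiv Subgroup.topEquiv χ.2)
    ((Chars.charDegree_spec χ).2) one_ne_zero (by rw [Nat.cast_one, one_smul])
  exact ⟨D, fun g => (h1 g).trans_eq (fixDef_top p g), h2, h3⟩

end Cfsg.Agent.Lib.PrimitiveDegree
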