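import Mathlib
import Cfsg.Agent.Lib.PrimitiveDegree.Main
import Cfsg.Agent.Lib.Fitting.Nilpotent

/-!
# Chief factors of metanilpotent groups
-/

set_option autoImplicit false

namespace Cfsg.Agent.Lib.PrimitiveDegree

open Subgroup
open scoped commutatorElement

theorem inf_center_ne_bot_of_nilpotent {X : Type*} [Group X] [Group.IsNilpotent X]
    (S : Subgroup X) [hS : S.Normal] (h : S ≠ ⊥) : S ⊓ center X ≠ ⊥ := by
  obtain ⟨n, hn⟩ := Subgroup.nilpotent_iff_lowerCentralSeries.1 (inferInstance : Group.IsNilpotent X)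
  intro hbot
  have key : ∀ i, i ≤ n →
      S ⊓ (⊤ : Subgroup X).lowerCentralSeries (n - i) = ⊥ := by
    intro i
    induction i with
    | zero => intro _; rw [Nat.sub_zero, hn, inf_bot_eq]
    | succ i ih =>
      intro hi
      rw [eq_bot_iff, ← hbot]
      rintro x ⟨hxS, hx⟩
      refine ⟨hxS, mem_center_iff.2 fun g => ?_⟩
      have h1 : ⁅x, g⁆ ∈ S := by
        rw [commutatorElement_def, mul_assoc, mul_assoc, ← mul_assoc g]
        exact S.mul_mem hxS (hS.conj_mem _ (S.inv_mem hxS) g)
      have h2 : ⁅x, g⁆ ∈ (⊤ : Subgroup X).lowerCentralSeries (n - i) := by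
        rw [show n - i = (n - (i + 1)) + 1 by omega, Subgroup.lowerCentralSeries_succ]
        exact commutator_mem_commutator hx (mem_top g)
      have : ⁅x, g⁆ ∈ (⊥ : Subgroup X) := ih (by omega) ▸ ⟨h1, h2⟩
      exact (commutatorElement_eq_one_iff_mul_comm.1 (mem_bot.1 this)).symm
  exact h (by simpa [Subgroup.lowerCentralSeries_zero] using key n le_rfl)

variable {H : Type*} [Group H] [Finite H]

omit [Finite H] in
/-- A nilpotent normal subgroup centralizes every minimal normal subgroup. -/
theorem nilpotent_le_centralizer_minimal {V F : Subgroup H} [V.Normal] [F.Normal]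
    [hF : Group.IsNilpotent F]
    (hmin : ∀ N : Subgroup H, N.Normal → N ≤ V → N = ⊥ ∨ N = V) :
    F ≤ centralizer (V : Set H) := by
  rcases hmin ⁅V, F⁆ inferInstance (commutator_le_left V F) with h | h
  · exact le_centralizer_iff.1 (commutator_eq_bot_iff_le_centralizer.1 h)
  · obtain ⟨n, hn⟩ := (isNilpotent_iff_lowerCentralSeries F).1 hF
    have key : ∀ i, V ≤ F.lowerCentralSeries i := by
      intro i
      induction i with
      | zero =>
        rw [Subgroup.lowerCentralSeries_zero, ← h]
        exact commutator_le_right V F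
      | succ i ih =>
        rw [Subgroup.lowerCentralSeries_succ]
        conv_lhs => rw [← h]
        exact commutator_mono ih le_rfl
    intro f _
    rw [mem_centralizer_iff]
    intro v hv
    have : v = 1 := mem_bot.1 (hn ▸ key n hv)
    rw [this, one_mul, mul_one]

/-- Two primes and metanilpotency: the Sylow `p`-subgroup acts trivially on a minimal normal
`p`-subgroup and some element of each Sylow `q`-subgroup is central in the induced group. -/
theorem action_of_metanilpotent {p q : ℕ} [Fact p.Prime] [Fact q.Prime]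
    (hpq : ∀ r : ℕ, r.Prime → r ∣ Nat.card H → r = p ∨ r = q)
    {V : Subgroup H} [V.Normal] (hVp : IsPGroup p V)
    (hmin : ∀ N : Subgroup H, N.Normal → N ≤ V → N = ⊥ ∨ N = V)
    (hnc : ¬ V ≤ center H) [Group.IsNilpotent (H ⧸ centralizer (V : Set H))]
    (P : Sylow p H) (Q : Sylow q H) :
    (P : Subgroup H) ≤ centralizer (V : Set H) ∧
      ∃ z ∈ (Q : Subgroup H), z ∉ centralizer (V : Set H) ∧
        ∀ g : H, g * z * g⁻¹ * z⁻¹ ∈ centralizer (V : Set H) := by
  classical
  set C := centralizer (V : Set H) with hC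
  have hπ : Function.Surjective (QuotientGroup.mk' C) := QuotientGroup.mk'_surjective C
  have hVbot : V ≠ ⊥ := fun h => hnc (h ▸ bot_le)
  have hcentral : ∀ z : H, (z : H ⧸ C) ∈ center (H ⧸ C) →
      ∀ g : H, g * z * g⁻¹ * z⁻¹ ∈ C := by
    intro z hz g
    rw [← QuotientGroup.eq_one_iff]
    simp only [QuotientGroup.mk_mul, QuotientGroup.mk_inv]
    rw [mem_center_iff.1 hz (g : H ⧸ C)]
    group
  -- the image of `P` is trivial
  have hP : (P : Subgroup H).map (QuotientGroup.mk' C) = ⊥ := by
    by_contra hne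
    set S := P.mapSurjective hπ
    have hSn : (S : Subgroup (H ⧸ C)).Normal :=
      (Group.isNilpotent_of_finite_tfae.out 0 3 rfl rfl).mp ‹_› p ‹_› S
    obtain ⟨x, hx, hx1⟩ :=
      (bot_or_exists_ne_one ((S : Subgroup (H ⧸ C)) ⊓ center (H ⧸ C))).resolve_left
        (inf_center_ne_bot_of_nilpotent _ (by rwa [Sylow.coe_mapSurjective]))
    obtain ⟨hxS, hxc⟩ := mem_inf.1 hx
    rw [Sylow.coe_mapSurjective] at hxS
    obtain ⟨y, hy, rfl⟩ := hxS
    have hyC : y ∉ C := fun h => hx1 ((QuotientGroup.eq_one_iff y).2 h)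
    have hyc := hcentral y hxc
    -- `y` has nontrivial fixed points on `V`
    have hVP : V ≤ P := hVp.le_sylow_of_normal P
    have : Group.IsNilpotent (P : Subgroup H) := P.2.isNilpotent
    have : (V.subgroupOf P).Normal := inferInstance
    obtain ⟨v, hv, hv1⟩ := (bot_or_exists_ne_one
      (V.subgroupOf P ⊓ center (P : Subgroup H))).resolve_left
        (inf_center_ne_bot_of_nilpotent _ (by
          rw [Ne, subgroupOf_eq_bot, disjoint_iff, inf_eq_left.2 hVP]; exact hVbot))
    obtain ⟨hvV, hvc⟩ := mem_inf.1 hv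
    have hyv : y * (v : H) = (v : H) * y :=
      congrArg Subtype.val (mem_center_iff.1 hvc ⟨y, hy⟩)
    have hfix : (v : H) ∈ V ⊓ centralizer ({y} : Set H) :=
      mem_inf_centralizer_singleton.2 ⟨hvV, hyv⟩
    have hN : (V ⊓ centralizer ({y} : Set H)).Normal :=
      normal_inf_centralizer_of_central hyc
    rcases hmin _ hN inf_le_left with h | h
    · exact hv1 (Subtype.ext (mem_bot.1 (h ▸ hfix)))
    · refine hyC (mem_centralizer_iff.2 fun w hw => ?_)
      have hw' : w ∈ V ⊓ centralizer ({y} : Set H) := by rw [h]; exact hw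
      exact (mem_inf_centralizer_singleton.1 hw').2.symm
  -- so the induced group is a `q`-group
  have hN : IsPGroup q (H ⧸ C) := by
    rw [IsPGroup.iff_card]
    refine ⟨(Nat.card (H ⧸ C)).factorization q, ?_⟩
    apply Nat.eq_pow_of_factorization_eq_single Nat.card_pos.ne'
    ext r
    rcases eq_or_ne r q with rfl | hrq
    · rw [Finsupp.single_eq_same]
    rw [Finsupp.single_eq_of_ne hrq]
    by_contra hr0
    have hr : r.Prime := Nat.prime_of_mem_primeFactors (Finsupp.mem_support_iff.2 hr0)
    have hrd : r ∣ Nat.card (H ⧸ C) := Nat.dvd_of_factorization_pos hr0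
    rcases hpq r hr (hrd.trans C.index_dvd_card) with rfl | rfl
    · have h := (P.mapSurjective hπ).card_eq_multiplicity
      rw [Sylow.coe_mapSurjective, hP, Subgroup.card_bot] at h
      exact hr.ne_one ((Nat.pow_eq_one.1 h.symm).resolve_right hr0)
    · exact hrq rfl
  refine ⟨fun y hy => ?_, ?_⟩
  · rw [← QuotientGroup.eq_one_iff]
    exact mem_bot.1 (hP ▸ mem_map.2 ⟨y, hy, rfl⟩)
  · have hQ : (Q : Subgroup H).map (QuotientGroup.mk' C) = ⊤ := by
      have h := (Q.mapSurjective hπ).3 (Q := ⊤) (hN.to_subgroup _) le_top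
      rw [Sylow.coe_mapSurjective] at *
      exact h.symm
    have hCtop : C ≠ ⊤ := by
      intro h
      refine hnc fun v hv => mem_center_iff.2 fun g => ?_
      have hg : g ∈ C := h ▸ mem_top g
      exact (mem_centralizer_iff.1 hg v hv).symm
    have : Nontrivial (H ⧸ C) := QuotientGroup.nontrivial_iff.2 hCtop
    obtain ⟨x, hx, hx1⟩ := (bot_or_exists_ne_one ((⊤ : Subgroup (H ⧸ C)) ⊓
      center (H ⧸ C))).resolve_left (inf_center_ne_bot_of_nilpotent _ top_ne_bot)
    obtain ⟨z, hzQ, rfl⟩ : x ∈ (Q : Subgroup H).map (QuotientGroup.mk' C) := hQ ▸ mem_top x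
    exact ⟨z, hzQ, fun h => hx1 ((QuotientGroup.eq_one_iff z).2 h),
      hcentral z (mem_inf.1 hx).2⟩

end Cfsg.Agent.Lib.PrimitiveDegree
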